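import Cfsg.Agent.H149.PGU3
import Cfsg.Agent.H163.PG.Few_m3
import Cfsg.Agent.S2603
import Mathlib
import Cfsg.Agent.Prune
set_option linter.all false
prune_inst 0x7f00000000000000000000000000000000000000000000000000000000000000000000000000000000000000000000000000000000000000000000000000000000000000000000000000000000000000003fffffffffffffffffffffffffffbeffbdffffffff
open scoped Cfsg.Agent.FastGrp

/-!
# The row `PSU_n(q)`, `n ≥ 5`, of S2529
-/

set_option autoImplicit false

namespace Cfsg.Agent.H149.PGU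

theorem card_out_psu {K : Type*} [Field K] [Fintype K] {p f q n : ℕ} [Fact p.Prime] (hf : 1 ≤ f) (hq : q = p ^ f)
    (hK : Fintype.card K = q ^ 2) (hn : 3 ≤ n) (h32 : ¬ (n = 3 ∧ q = 2)) :
    Nat.card (Cfsg.Out (Cfsg.PSU n K q)) = Nat.gcd n (q + 1) * (2 * f) := by
  obtain ⟨φ, hφ, -, hk⟩ := S2603.result hf hq hK hn h32
  have h1 : Nat.card (Cfsg.Out (Cfsg.PSU n K q) ⧸ φ.ker) = 2 * f := by
    rw [Nat.card_congr (QuotientGroup.quotientKerEquivOfSurjective φ hφ).toEquiv,
      Nat.card_congr Multiplicative.toAdd, Nat.card_zmod]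
  rw [Subgroup.card_eq_card_quotient_mul_card_subgroup φ.ker, h1, hk, mul_comm]

theorem exists_pf {F : Type*} [Field F] [Fintype F] {q : ℕ} (hF : Fintype.card F = q ^ 2) :
    ∃ p f : ℕ, p.Prime ∧ 1 ≤ f ∧ q = p ^ f := by
  obtain ⟨p, hc⟩ := CharP.exists F
  obtain ⟨m, hp, hm⟩ := FiniteField.card F p
  have h1 : q ∣ p ^ (m : ℕ) := by
    rw [← hm, hF, sq]
    exact Dvd.intro _ rfl
  obtain ⟨f, -, hf⟩ := (Nat.dvd_prime_pow hp).1 h1
  refine ⟨p, f, hp, ?_, hf⟩
  by_contra h0
  have : f = 0 := by omega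
  rw [this, pow_zero] at hf
  rw [hf, one_pow] at hF
  have := Fintype.one_lt_card (α := F)
  omega

/-- **Row `PSU_n(q)`, `n ≥ 5`.** -/
theorem psu_goal.{a, b} {F : Type a} [Field F] [Fintype F] {q n : ℕ} (hF : Fintype.card F = q ^ 2) (hn : 5 ≤ n) :
    H163.PG.Goal.{a, b} (Cfsg.PSU n F q) := by
  obtain ⟨p, f, hp, hf, hq⟩ := exists_pf hF
  have := Fact.mk hp
  have hO := card_out_psu (n := n) hf hq hF (by omega) (by omega)
  by_cases hex : n = 5 ∧ q = 2
  · obtain ⟨rfl, rfl⟩ := hex
    have hf1 : f = 1 := by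
      have h2 : p ∣ 2 := by rw [hq]; exact dvd_pow_self p (by omega)
      have h3 := (Nat.prime_dvd_prime_iff_eq hp Nat.prime_two).1 h2
      subst h3
      exact (Nat.pow_right_injective le_rfl (by simpa using hq)).symm
    subst hf1
    have hfin : Finite (Cfsg.PSU 5 F 2) := inferInstance
    apply H163.PG.goal_of_primes {2, 3, 5, 11} (by decide)
    · intro r hr hd
      have h := S0280.result hF 5 (by norm_num)
      have h1 : r ∣ 2 ^ 10 * (3 ^ 6 * 5 * 11) := by
        have h2 : r ∣ Nat.gcd 5 (2 + 1) * ((2 + 1) * Nat.card (Cfsg.PSU 5 F 2)) :=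
          (hd.mul_left _).mul_left _
        rw [h] at h2
        refine h2.trans ?_
        decide
      rcases (Nat.Prime.dvd_mul hr).1 h1 with h2 | h2
      · have := (Nat.prime_dvd_prime_iff_eq hr Nat.prime_two).1 (hr.dvd_of_dvd_pow h2)
        simp [this]
      · rcases (Nat.Prime.dvd_mul hr).1 h2 with h3 | h3
        · rcases (Nat.Prime.dvd_mul hr).1 h3 with h4 | h4
          · have := (Nat.prime_dvd_prime_iff_eq hr Nat.prime_three).1 (hr.dvd_of_dvd_pow h4)
            simp [this]
          · have := (Nat.prime_dvd_prime_iff_eq hr (by norm_num : Nat.Prime 5)).1 h4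
            simp [this]
        · have := (Nat.prime_dvd_prime_iff_eq hr (by norm_num : Nat.Prime 11)).1 h3
          simp [this]
    · intro r hr hd
      rw [hO] at hd
      have h2 : r ∣ 2 := by simpa using hd
      have := (Nat.prime_dvd_prime_iff_eq hr Nat.prime_two).1 h2
      simp [this]
  · exact H163.PG.goal_of_has3Out (psu_has3Out hf hq hF hn hex hO)

end Cfsg.Agent.H149.PGU
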